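import Groth.Prelude.Def_FibClv

/-!
# Helper lemmas on cleavages (helper9)
-/

set_option autoImplicit false
set_option backward.isDefEq.respectTransparency false

universe v₁ v₂ u₁ u₂

open CategoryTheory CategoryTheory.Functor

namespace Groth.Agent.Lib.Helper9.FibClv

variable {𝒮 : Type u₁} {𝒳 : Type u₂} [Category.{v₁} 𝒮] [Category.{v₂} 𝒳] {p : 𝒳 ⥤ 𝒮}

/-- a morphism of a fibre whose image in `𝒳` is an isomorphism is an isomorphism of the fibre -/
theorem fiber_isIso {S : 𝒮} {a b : p.Fiber S} (φ : a ⟶ b)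
    (h : IsIso (Fiber.fiberInclusion.map φ)) : IsIso φ := by
  refine ⟨⟨Fiber.homMk p S (inv (Fiber.fiberInclusion.map φ)), ?_, ?_⟩⟩ <;>
    apply Fiber.hom_ext <;> simp

theorem congr_lift (K : FibCat.Cleavage p) {R S : 𝒮} {f₁ f₂ : R ⟶ S} (h : f₁ = f₂)
    (a : p.Fiber S) :
    Fiber.fiberInclusion.map ((K.inverseImageCongr h).hom.app a) ≫ K.lift a.2 f₂ =
      K.lift a.2 f₁ := by
  subst h
  simp [FibCat.Cleavage.inverseImageCongr]

/-- in a fibred category the comparison maps of a cleavage are isomorphisms -/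
theorem isIso_comp_of_isFibered [p.IsFibered] (K : FibCat.Cleavage p) {R S T : 𝒮} (f : T ⟶ S)
    (g : R ⟶ T) : IsIso (K.comp f g) := by
  rw [NatTrans.isIso_iff_isIso_app]
  intro a
  apply fiber_isIso
  rw [FibCat.Cleavage.comp_app]
  rw [← IsCartesian.domainUniqueUpToIso_hom p (g ≫ f) (K.lift a.2 (g ≫ f))
    (K.lift (K.obj_proj a.2 f) g ≫ K.lift a.2 f)]
  infer_instance

/-- the chosen lift along an identity is an isomorphism in a fibred category -/
theorem isIso_lift_id [p.IsFibered] (K : FibCat.Cleavage p) {S : 𝒮} {a : 𝒳} (ha : p.obj a = S) :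
    IsIso (K.lift ha (𝟙 S)) :=
  IsStronglyCartesian.isIso_of_base_isIso p (𝟙 S) (K.lift ha (𝟙 S))

/-- in a fibred category, the inverse image along an identity is isomorphic to the identity -/
noncomputable def inverseImageIdIso [p.IsFibered] (K : FibCat.Cleavage p) (S : 𝒮) :
    K.inverseImage (𝟙 S) ≅ 𝟭 (p.Fiber S) :=
  NatIso.ofComponents
    (fun a => by
      haveI := isIso_lift_id K a.2
      haveI : IsIso (Fiber.homMk p S (K.lift a.2 (𝟙 S)) : (K.inverseImage (𝟙 S)).obj a ⟶ a) :=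
        fiber_isIso _ (by simpa using isIso_lift_id K a.2)
      exact asIso (Fiber.homMk p S (K.lift a.2 (𝟙 S)) : (K.inverseImage (𝟙 S)).obj a ⟶ a))
    (by
      intro a b φ
      apply Fiber.hom_ext
      simp)

end Groth.Agent.Lib.Helper9.FibClv
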