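import Groth.Prelude.Def_KZero2

set_option autoImplicit false

namespace Groth.Agent.Lib.Helper9

open CategoryTheory CategoryTheory.Limits CategoryTheory.Pretriangulated
open ZeroObject

universe v u

variable {C : Type u} [Category.{v} C] [Preadditive C] [HasZeroObject C]
    [HasShift C ℤ] [∀ n : ℤ, (shiftFunctor C n).Additive] [Pretriangulated C]

theorem clTri_dist (T : Triangle C) (hT : T ∈ distTriang C) :
    KZero.clTri T.obj₂ = KZero.clTri T.obj₁ + KZero.clTri T.obj₃ := by
  have hmem : FreeAbelianGroup.of (⟨T.obj₂, trivial⟩ : Subtype (⊤ : ObjectProperty C)) -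
      FreeAbelianGroup.of ⟨T.obj₁, trivial⟩ - FreeAbelianGroup.of ⟨T.obj₃, trivial⟩ ∈
      KZero.relTr (⊤ : ObjectProperty C) :=
    AddSubgroup.subset_closure ⟨T, trivial, trivial, trivial, hT, rfl⟩
  have h0 : (QuotientAddGroup.mk (FreeAbelianGroup.of (⟨T.obj₂, trivial⟩ : Subtype (⊤ : ObjectProperty C)) -
      FreeAbelianGroup.of ⟨T.obj₁, trivial⟩ - FreeAbelianGroup.of ⟨T.obj₃, trivial⟩) :
      KZero.K0tri C) = 0 := (QuotientAddGroup.eq_zero_iff _).mpr hmem
  simp only [QuotientAddGroup.mk_sub] at h0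
  unfold KZero.clTri
  rw [sub_sub, sub_eq_zero] at h0
  exact h0

theorem clTri_zero : KZero.clTri (0 : C) = 0 := by
  have := clTri_dist _ (contractible_distinguished (0 : C))
  simp only [contractibleTriangle_obj₁, contractibleTriangle_obj₂, contractibleTriangle_obj₃] at this
  exact (add_eq_left.mp this.symm)

theorem clTri_iso {X Y : C} (e : X ≅ Y) : KZero.clTri X = KZero.clTri Y := by
  have hT : Triangle.mk e.hom (0 : Y ⟶ 0) 0 ∈ distTriang C := by
    refine isomorphic_distinguished _ (contractible_distinguished X) _ ?_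
    refine Triangle.isoMk (Triangle.mk e.hom (0 : Y ⟶ 0) 0) (contractibleTriangle X)
      (Iso.refl X) e.symm (Iso.refl 0) ?_ ?_ ?_
    · show e.hom ≫ e.inv = 𝟙 X ≫ 𝟙 X
      rw [Iso.hom_inv_id, Category.comp_id]
    · show (0 : Y ⟶ 0) ≫ 𝟙 0 = e.inv ≫ 0
      rw [comp_zero, zero_comp]
    · show (0 : (0 : C) ⟶ (shiftFunctor C (1 : ℤ)).obj X) ≫ (shiftFunctor C (1 : ℤ)).map (𝟙 X) =
        𝟙 0 ≫ 0
      rw [zero_comp, comp_zero]
  have := clTri_dist _ hT
  simp only [Triangle.mk_obj₁, Triangle.mk_obj₂, Triangle.mk_obj₃, clTri_zero, add_zero] at this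
  exact this.symm

theorem clTri_shift_one (X : C) : KZero.clTri ((shiftFunctor C (1 : ℤ)).obj X) = - KZero.clTri X := by
  have := clTri_dist _ (contractible_distinguished₂ X)
  simp only [Triangle.mk_obj₁, Triangle.mk_obj₂, Triangle.mk_obj₃, clTri_zero] at this
  rw [eq_neg_iff_add_eq_zero, add_comm, ← this]

theorem clTri_shift_two (X : C) : KZero.clTri ((shiftFunctor C (2 : ℤ)).obj X) = KZero.clTri X := by
  rw [clTri_iso ((shiftFunctorAdd' C (1 : ℤ) 1 2 (by omega)).app X)]
  simp only [Functor.comp_obj]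
  rw [clTri_shift_one, clTri_shift_one, neg_neg]

theorem clTri_shift_add (X : C) (a b : ℤ) :
    KZero.clTri ((shiftFunctor C (a + b)).obj X) =
      KZero.clTri ((shiftFunctor C b).obj ((shiftFunctor C a).obj X)) :=
  clTri_iso ((shiftFunctorAdd C a b).app X)

theorem clTri_shift_zero (X : C) : KZero.clTri ((shiftFunctor C (0 : ℤ)).obj X) = KZero.clTri X :=
  clTri_iso ((shiftFunctorZero C ℤ).app X)

theorem clTri_shift_two_mul_nat (m : ℕ) : ∀ X : C,
    KZero.clTri ((shiftFunctor C (2 * (m : ℤ))).obj X) = KZero.clTri X := by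
  induction m with
  | zero => intro X; simpa using clTri_shift_zero X
  | succ m ih =>
    intro X
    have : (2 * ((m + 1 : ℕ) : ℤ)) = 2 * (m : ℤ) + 2 := by push_cast; omega
    rw [this, clTri_shift_add, clTri_shift_two, ih]

theorem clTri_shift_two_mul (k : ℤ) (X : C) :
    KZero.clTri ((shiftFunctor C (2 * k)).obj X) = KZero.clTri X := by
  rcases Int.eq_nat_or_neg k with ⟨m, rfl | rfl⟩
  · exact clTri_shift_two_mul_nat m X
  · have h1 := clTri_shift_two_mul_nat m ((shiftFunctor C (2 * -(m : ℤ))).obj X)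
    rw [← clTri_shift_add] at h1
    have : 2 * -(m : ℤ) + 2 * (m : ℤ) = 0 := by omega
    rw [this, clTri_shift_zero] at h1
    exact h1.symm

theorem clTri_biprod (X Y : C) : KZero.clTri (X ⊞ Y) = KZero.clTri X + KZero.clTri Y :=
  clTri_dist _ (binaryBiproductTriangle_distinguished X Y)

end Groth.Agent.Lib.Helper9
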