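import Mathlib.CategoryTheory.Sites.CartesianMonoidal
import Mathlib.CategoryTheory.Sites.Sheafification
import Mathlib.CategoryTheory.Sites.Limits
import Mathlib.CategoryTheory.Monoidal.Cartesian.FunctorCategory
import Mathlib.CategoryTheory.Monoidal.Closed.Types
import Mathlib.CategoryTheory.Limits.Preserves.Shapes.Equalizers

/-!
# Product with a fixed sheaf of sets preserves colimits

For a site `(C, J)` with sheafification for `Type w`-valued sheaves (arbitrary universes),
`X ⊗ -` on `Sheaf J (Type w)` preserves colimits of every shape that `Type w` has.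
-/

set_option autoImplicit false

namespace Groth.Agent.Lib.Helper9.SheafTensor

open CategoryTheory Limits MonoidalCategory CartesianMonoidalCategory

universe w v₁ u₁ v₂ u₂

variable {C : Type u₁} [Category.{v₁} C] (J : GrothendieckTopology C) [HasSheafify J (Type w)]

/-- comparison `a(ιX ⊗ P) ⟶ X ⊗ a(P)` -/
noncomputable def cmp (X : Sheaf J (Type w)) :
    tensorLeft ((sheafToPresheaf J (Type w)).obj X) ⋙ presheafToSheaf J (Type w) ⟶
      presheafToSheaf J (Type w) ⋙ tensorLeft X where
  app P := lift ((presheafToSheaf J (Type w)).map (fst _ P) ≫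
      (sheafificationAdjunction J (Type w)).counit.app X)
    ((presheafToSheaf J (Type w)).map (snd _ P))
  naturality P P' p := by
    apply CartesianMonoidalCategory.hom_ext
    · change ((presheafToSheaf J (Type w)).map (_ ◁ p) ≫ _) ≫ _ = (_ ≫ (X ◁ _)) ≫ _
      simp only [Category.assoc, lift_fst]
      rw [← Functor.map_comp_assoc, whiskerLeft_fst]
      erw [whiskerLeft_fst, lift_fst]
    · change ((presheafToSheaf J (Type w)).map (_ ◁ p) ≫ _) ≫ _ = (_ ≫ (X ◁ _)) ≫ _
      simp only [Category.assoc, lift_snd]
      rw [← Functor.map_comp, whiskerLeft_snd]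
      erw [whiskerLeft_snd, lift_snd_assoc, Functor.map_comp]

instance (X : Sheaf J (Type w)) : IsIso (cmp J X) := by
  rw [NatTrans.isIso_iff_isIso_app]
  intro P
  have e : (cmp J X).app P = CartesianMonoidalCategory.prodComparison (presheafToSheaf J (Type w))
      ((sheafToPresheaf J (Type w)).obj X) P ≫
      ((sheafificationAdjunction J (Type w)).counit.app X ▷ _) := by
    apply CartesianMonoidalCategory.hom_ext
    · simp only [cmp, lift_fst, Category.assoc]
      erw [whiskerRight_fst, CartesianMonoidalCategory.prodComparison_fst_assoc]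
    · simp only [cmp, lift_snd, Category.assoc]
      erw [whiskerRight_snd, CartesianMonoidalCategory.prodComparison_snd]
  rw [e]
  infer_instance

theorem preservesColimitsOfShape_tensorLeft (K : Type u₂) [Category.{v₂} K]
    [HasColimitsOfShape K (Type w)] (X : Sheaf J (Type w)) :
    PreservesColimitsOfShape K (tensorLeft X) := by
  have h2 : PreservesColimitsOfShape K (presheafToSheaf J (Type w) ⋙ tensorLeft X) :=
    preservesColimitsOfShape_of_natIso (asIso (cmp J X))
  constructor
  intro F
  let e : (F ⋙ sheafToPresheaf J (Type w)) ⋙ presheafToSheaf J (Type w) ≅ F :=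
    Functor.associator _ _ _ ≪≫
      Functor.isoWhiskerLeft F (asIso (sheafificationAdjunction J (Type w)).counit) ≪≫
      F.rightUnitor
  have : PreservesColimit ((F ⋙ sheafToPresheaf J (Type w)) ⋙ presheafToSheaf J (Type w))
      (tensorLeft X) := by
    apply preservesColimit_of_preserves_colimit_cocone
      (isColimitOfPreserves (presheafToSheaf J (Type w))
        (colimit.isColimit (F ⋙ sheafToPresheaf J (Type w))))
    exact isColimitOfPreserves (presheafToSheaf J (Type w) ⋙ tensorLeft X) (colimit.isColimit _)
  exact preservesColimit_of_iso_diagram _ e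

theorem preservesColimitsOfShape_tensorRight (K : Type u₂) [Category.{v₂} K]
    [HasColimitsOfShape K (Type w)] (X : Sheaf J (Type w)) :
    PreservesColimitsOfShape K (tensorRight X) := by
  let _ : BraidedCategory (Sheaf J (Type w)) := .ofCartesianMonoidalCategory
  have := preservesColimitsOfShape_tensorLeft J K X
  constructor
  intro F
  exact preservesColimit_of_natIso F (BraidedCategory.tensorLeftIsoTensorRight X)

theorem whiskerLeft_epi (X : Sheaf J (Type w)) {A B : Sheaf J (Type w)} (f : A ⟶ B) [Epi f] :
    Epi (X ◁ f) := by
  have := preservesColimitsOfShape_tensorLeft J WalkingSpan X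
  exact (tensorLeft X).map_epi f

theorem whiskerRight_epi (X : Sheaf J (Type w)) {A B : Sheaf J (Type w)} (f : A ⟶ B) [Epi f] :
    Epi (f ▷ X) := by
  have := preservesColimitsOfShape_tensorRight J WalkingSpan X
  exact (tensorRight X).map_epi f

end Groth.Agent.Lib.Helper9.SheafTensor
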